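import Cfsg.Agent.H574.IFO.Swap
import Cfsg.Agent.H602.FC.AutU
import Cfsg.Agent.H447.IFO.Solv

/-!
# S5719, `PSU_n(q)`, `|A|` odd: the frame inside `Perm (End V)` (helper574)

`us s` the unit of `End V` of `s ∈ SU`, `SS Γ ≤ RB (hb n hF)` the group of the ring automorphisms of `End V` inducing elements
of `Γ`.  `max_stab` : the principle of the maximality of `A`.
-/

set_option autoImplicit false
set_option linter.unusedSectionVars false

namespace Cfsg.Agent.H574.IFO

open Matrix Subgroup Cfsg.Agent.H198.FC Cfsg.Agent.LieClassical.HermBasic Cfsg.Agent.LieClassical.HermSiegel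
  Cfsg.Agent.ClassicalGeometry.PSUAutCount Cfsg.Agent.Schreier.PSU Cfsg.Agent.H602.FC Cfsg.Agent.H209.Fxy
open Cfsg.Agent.ClassicalGeometry.UnitAutBasic (pr pr_surjective)

section sol

variable {T : Type*} [Group T] {A : Subgroup T} {Γ : Subgroup (MulAut T)}

/-- `T` is not commutative -/
theorem not_comm [IsSimpleGroup T] (h : IF A Γ) : ∃ x y : T, x * y ≠ y * x := by
  by_contra hcon
  push Not at hcon
  have hn : A.Normal := ⟨fun a ha g => by rw [hcon g a, mul_assoc, mul_inv_cancel, mul_one]; exact ha⟩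
  rcases hn.eq_bot_or_eq_top with h1 | h1
  · exact h.ne_bot h1
  · exact h.ne_top h1

theorem center_bot [IsSimpleGroup T] (h : IF A Γ) {x : T} (hx : ∀ y, x * y = y * x) : x = 1 := by
  have h1 : x ∈ Subgroup.center T := Subgroup.mem_center_iff.2 fun y => (hx y).symm
  rcases (inferInstance : (Subgroup.center T).Normal).eq_bot_or_eq_top with h2 | h2
  · rwa [h2, Subgroup.mem_bot] at h1
  · exfalso
    obtain ⟨a, b, hab⟩ := not_comm h
    have h3 : b ∈ Subgroup.center T := by rw [h2]; exact Subgroup.mem_top b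
    exact hab (Subgroup.mem_center_iff.1 h3 a)

/-- `Γ` is solvable -/
theorem solvable [Finite T] (hsch : Schreier.Basic.Sch T) (h : IF A Γ) (hodd : Odd (Nat.card A)) : Group.IsSolvable Γ := by
  have hA : Group.IsSolvable A := Cfsg.Agent.S0205.result hodd
  have : Finite (MulAut T) := Finite.of_injective (fun f : MulAut T => (f : T → T)) DFunLike.coe_injective
  apply Schreier.Basic.isSolvable_of_perfect_eq_bot
  intro D hD hDD
  apply Schreier.Basic.eq_bot_of_perfect_of_solvable hDD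
  have h1 := hsch D hDD
  have h2 : D ≤ A.map (MulAut.conj : T →* MulAut T) := by
    intro d hd
    obtain ⟨a, rfl⟩ := h1 hd
    exact ⟨a, (h.conj a).1 (hD hd), rfl⟩
  have h3 : Group.IsSolvable (A.map (MulAut.conj : T →* MulAut T)) :=
    Group.isSolvable_of_surjective (MonoidHom.subgroupMap_surjective (MulAut.conj : T →* MulAut T) A)
  exact Group.isSolvable_of_isSolvable_injective (f := Subgroup.inclusion h2) (Subgroup.inclusion_injective h2)

end sol

section frame

variable {n : ℕ} {F : Type} [Field F] {q : ℕ}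

/-- elements of `SU` as elements of `GU` -/
def gu : Cfsg.SU n F q →* Cfsg.GU n F q where
  toFun s := ⟨((s : Matrix.SpecialLinearGroup (Fin n) F) : GL (Fin n) F), fun u v => herm_act s u v⟩
  map_one' := by
    apply Subtype.ext
    apply Units.ext
    rfl
  map_mul' s t := by
    apply Subtype.ext
    apply Units.ext
    change ((s * t : Cfsg.SU n F q) : Matrix.SpecialLinearGroup (Fin n) F).1 = _
    exact mat_mul s t

theorem gm_gu (s : Cfsg.SU n F q) : gm (gu s) = mat s := rfl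

/-- the unit of `End V` -/
noncomputable def us : Cfsg.SU n F q →* (R F (V n F))ˣ := (U n F).comp ((Subgroup.subtype _).comp gu)

theorem coe_us (s : Cfsg.SU n F q) : ((us s : (R F (V n F))ˣ) : R F (V n F)) = E n F (mat s) := rfl

theorem us_apply (s : Cfsg.SU n F q) (v : V n F) : ((us s : (R F (V n F))ˣ) : R F (V n F)) v = act s v := rfl

theorem us_inj : Function.Injective (us : Cfsg.SU n F q → (R F (V n F))ˣ) := by
  intro s t h
  apply mat_injective
  apply (E n F).injective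
  rw [← coe_us, ← coe_us, h]

/-- conjugation by `s` -/
noncomputable abbrev cs (s : Cfsg.SU n F q) : Equiv.Perm (R F (V n F)) := H198.FC.cj F (V n F) (us s)

theorem pair_mem (s : Cfsg.SU n F q) : ((cs s, MulAut.conj (pr n F q s)) : GGU n F q) ∈ HU n F q := by
  have h : ((cs s, MulAut.conj (pr n F q s)) : GGU n F q) = AU n F q (gu s) :=
    Prod.ext rfl (f₁_eq_conj (gu s) s (gm_gu s)).symm
  rw [h]
  exact AU_mem _

theorem eq_of_fst {f : Equiv.Perm (R F (V n F))} {σ τ : MulAut (Cfsg.PSU n F q)}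
    (h : ((f, σ) : GGU n F q) ∈ HU n F q) (h' : ((f, τ) : GGU n F q) ∈ HU n F q) : σ = τ := by
  have h1 : ((f, σ) : GGU n F q)⁻¹ * (f, τ) ∈ HU n F q := mul_mem (inv_mem h) h'
  have h2 := eq_one_of_fstU h1 (by
    change f⁻¹ * f = 1
    exact inv_mul_cancel f)
  have h3 : σ⁻¹ * τ = 1 := congrArg Prod.snd h2
  exact (inv_mul_eq_one.1 h3)

variable [Fintype F] (hF : Fintype.card F = q ^ 2)

include hF in
theorem eq_of_snd (hn : 3 ≤ n) {f g : Equiv.Perm (R F (V n F))} {σ : MulAut (Cfsg.PSU n F q)}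
    (h : ((f, σ) : GGU n F q) ∈ HU n F q) (h' : ((g, σ) : GGU n F q) ∈ HU n F q) : f = g := by
  have h1 : ((f, σ) : GGU n F q)⁻¹ * (g, σ) ∈ HU n F q := mul_mem (inv_mem h) h'
  have h2 := eq_one_of_sndU hF hn h1 (by
    change σ⁻¹ * σ = 1
    exact inv_mul_cancel σ)
  have h3 : f⁻¹ * g = 1 := congrArg Prod.fst h2
  exact (inv_mul_eq_one.1 h3)

include hF in
/-- **conjugation by the elements of the frame** -/
theorem conj_cs (hn : 3 ≤ n) {f : Equiv.Perm (R F (V n F))} {σ : MulAut (Cfsg.PSU n F q)}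
    (h : ((f, σ) : GGU n F q) ∈ HU n F q) {s t : Cfsg.SU n F q} (ht : pr n F q t = σ (pr n F q s)) :
    f * cs s * f⁻¹ = cs t := by
  refine eq_of_snd hF hn (σ := MulAut.conj (pr n F q t)) ?_ (pair_mem t)
  have h1 : ((f, σ) : GGU n F q) * (cs s, MulAut.conj (pr n F q s)) * (f, σ)⁻¹ ∈ HU n F q :=
    mul_mem (mul_mem h (pair_mem s)) (inv_mem h)
  have h2 : σ * MulAut.conj (pr n F q s) * σ⁻¹ = MulAut.conj (pr n F q t) := by
    rw [ht]
    ext x
    simp only [MulAut.mul_apply, MulAut.conj_apply, map_mul, map_inv, MulAut.apply_inv_self]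
  have h3 : ((f, σ) : GGU n F q) * (cs s, MulAut.conj (pr n F q s)) * (f, σ)⁻¹ =
      (f * cs s * f⁻¹, MulAut.conj (pr n F q t)) := Prod.ext rfl h2
  rwa [h3] at h1

include hF in
theorem cs_eq_one (hn : 3 ≤ n) {s : Cfsg.SU n F q} (h : pr n F q s = 1) : cs s = 1 := by
  refine eq_of_snd hF hn (σ := 1) ?_ (one_mem _)
  have h1 := pair_mem s
  rwa [h, map_one] at h1

variable (Γ : Subgroup (MulAut (Cfsg.PSU n F q)))

/-- the group of the ring automorphisms inducing elements of `Γ` -/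
noncomputable def SS : Subgroup (Equiv.Perm (R F (V n F))) :=
  (HU n F q ⊓ Γ.comap (MonoidHom.snd _ _)).map (MonoidHom.fst _ _)

variable {Γ}

theorem mem_SS {f : Equiv.Perm (R F (V n F))} :
    f ∈ SS Γ ↔ ∃ σ ∈ Γ, ((f, σ) : GGU n F q) ∈ HU n F q := by
  constructor
  · rintro ⟨p, ⟨hp, hp2⟩, rfl⟩
    exact ⟨p.2, hp2, hp⟩
  · rintro ⟨σ, hσ, h⟩
    exact ⟨(f, σ), ⟨h, hσ⟩, rfl⟩

theorem SS_le : SS Γ ≤ RB (hb n hF) := by
  intro f hf
  obtain ⟨σ, -, h⟩ := mem_SS.1 hf
  exact fst_memU hF h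

include hF in
theorem SS_solvable (hn : 3 ≤ n) (hΓ : Group.IsSolvable Γ) : Group.IsSolvable (SS Γ) := by
  have hT : Group.IsSolvable (HU n F q ⊓ Γ.comap (MonoidHom.snd _ _) : Subgroup (GGU n F q)) := by
    let f : (HU n F q ⊓ Γ.comap (MonoidHom.snd _ _) : Subgroup (GGU n F q)) →* Γ :=
      ((MonoidHom.snd (Equiv.Perm (R F (V n F))) (MulAut (Cfsg.PSU n F q))).comp
        (Subgroup.subtype (HU n F q ⊓ Γ.comap (MonoidHom.snd _ _)))).codRestrict Γ fun p => p.2.2
    have hf : Function.Injective f := by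
      rw [injective_iff_map_eq_one]
      intro p hp
      apply Subtype.ext
      exact eq_one_of_sndU hF hn p.2.1 (congrArg Subtype.val hp)
    exact Group.isSolvable_of_isSolvable_injective hf
  exact Group.isSolvable_of_surjective (MonoidHom.subgroupMap_surjective
    (MonoidHom.fst (Equiv.Perm (R F (V n F))) (MulAut (Cfsg.PSU n F q))) (HU n F q ⊓ Γ.comap (MonoidHom.snd _ _)))

theorem cs_mem_SS {A : Subgroup (Cfsg.PSU n F q)} (h : IF A Γ) {s : Cfsg.SU n F q} :
    cs s ∈ SS Γ ↔ pr n F q s ∈ A := by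
  rw [mem_SS]
  constructor
  · rintro ⟨σ, hσ, h1⟩
    have h2 := eq_of_fst h1 (pair_mem s)
    rw [h2] at hσ
    exact (h.conj _).1 hσ
  · intro hs
    exact ⟨_, (h.conj _).2 hs, pair_mem s⟩

include hF in
/-- **Principle.** `B ≥ SS Γ` : all `cs s` are in `B`, or all `s` with `cs s ∈ B` are over `A`. -/
theorem max_stab (hn : 3 ≤ n) (h32 : ¬ (n = 3 ∧ q = 2)) {A : Subgroup (Cfsg.PSU n F q)} (h : IF A Γ)
    {B : Subgroup (Equiv.Perm (R F (V n F)))} (hB : SS Γ ≤ B) :
    (∀ s : Cfsg.SU n F q, cs s ∈ B) ∨ ∀ s : Cfsg.SU n F q, cs s ∈ B → pr n F q s ∈ A := by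
  let C : Subgroup (Cfsg.SU n F q) := B.comap ((H198.FC.cj F (V n F)).comp us)
  have hC : ∀ s, s ∈ C ↔ cs s ∈ B := fun s => Iff.rfl
  have hker : ∀ {s t : Cfsg.SU n F q}, pr n F q s = pr n F q t → s ∈ C → t ∈ C := by
    intro s t hst hs
    have h1 : pr n F q (s⁻¹ * t) = 1 := by rw [map_mul, map_inv, hst, inv_mul_cancel]
    have h2 : s⁻¹ * t ∈ C := by
      rw [hC, cs_eq_one hF hn h1]
      exact one_mem _
    have h3 := mul_mem hs h2
    rwa [mul_inv_cancel_left] at h3
  rcases h.max (C.map (pr n F q)) (by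
    intro a ha
    obtain ⟨s, rfl⟩ := pr_surjective a
    exact ⟨s, hB ((cs_mem_SS h).2 ha), rfl⟩) (by
    rintro σ hσ _ ⟨s, hs, rfl⟩
    obtain ⟨p, hp, hp2⟩ := exists_pairU hF hn h32 σ
    obtain ⟨t, ht⟩ := pr_surjective (σ (pr n F q s))
    have h1 : ((p.1, σ) : GGU n F q) ∈ HU n F q := by rw [← hp2]; exact hp
    have h2 := conj_cs hF hn h1 ht
    have h3 : p.1 ∈ B := hB (mem_SS.2 ⟨σ, hσ, h1⟩)
    refine ⟨t, ?_, ht⟩
    change cs t ∈ B
    rw [← h2]
    exact mul_mem (mul_mem h3 hs) (inv_mem h3)) with h1 | h1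
  · right
    intro s hs
    rw [← h1]
    exact ⟨s, hs, rfl⟩
  · left
    intro s
    have h2 : pr n F q s ∈ C.map (pr n F q) := by rw [h1]; exact mem_top _
    obtain ⟨t, ht, hts⟩ := h2
    exact hker hts ht

end frame

end Cfsg.Agent.H574.IFO
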