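import Cfsg.Agent.H574.IFO.Frame

/-!
# S5719, `PSU_n(q)`, `|A|` odd: killing lemmas (helper574)

* `span_us` : the algebra generated by `SU` is `End V`;
* `exists_sw` : the swap elements have even order in `PSU`;
* `kill_set` : an `SS Γ`-invariant set `D ⊆ End V`; `kill_sub` : an invariant subspace.
-/

set_option autoImplicit false
set_option linter.unusedSectionVars false

namespace Cfsg.Agent.H574.IFO

open Matrix Subgroup Cfsg.Agent.H198.FC Cfsg.Agent.LieClassical.HermBasic Cfsg.Agent.LieClassical.HermSiegel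
  Cfsg.Agent.ClassicalGeometry.PSUAutCount Cfsg.Agent.Schreier.PSU Cfsg.Agent.H602.FC Cfsg.Agent.H209.Fxy
open Cfsg.Agent.ClassicalGeometry.UnitAutBasic (pr pr_surjective)

theorem even_of_four {G : Type*} [Group G] {x : G} (h4 : x ^ 4 = 1) (h1 : x ≠ 1) : Even (orderOf x) := by
  have h2 : orderOf x ∣ 4 := orderOf_dvd_of_pow_eq_one h4
  have h3 : orderOf x ≠ 1 := fun h => h1 (orderOf_eq_one_iff.1 h)
  have h5 : orderOf x ≤ 4 := Nat.le_of_dvd (by norm_num) h2
  generalize orderOf x = m at h2 h3 h5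
  interval_cases m
  · revert h2; decide
  · exact absurd rfl h3
  · decide
  · revert h2; decide
  · decide

theorem gen1 {K A : Type*} [Field K] [Ring A] [Algebra K A] (x y z w : A) {c : K} (hc0 : c ≠ 0) :
    (1 + c • x - c⁻¹ • y - z - w) - (1 + (1 : K) • x - (1 : K)⁻¹ • y - z - w) = (c - 1) • (x + c⁻¹ • y) := by
  have e1 : (1 : K) - c⁻¹ = (c - 1) * c⁻¹ := by
    rw [sub_mul, mul_inv_cancel₀ hc0, one_mul]
  have e2 : (1 : K) • y - c⁻¹ • y = ((c - 1) * c⁻¹) • y := by rw [← e1, sub_smul]
  rw [smul_add, smul_smul, ← e2, sub_smul, inv_one]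
  abel

theorem gen2 {K A : Type*} [Field K] [Ring A] [Algebra K A] (x y : A) (c c' : K) :
    (x + c • y) - (x + c' • y) = (c - c') • y := by
  rw [sub_smul]
  abel

theorem pai {X : Type*} (f : Equiv.Perm X) (x : X) : f (f⁻¹ x) = x := f.apply_symm_apply x

theorem pia {X : Type*} (f : Equiv.Perm X) (x : X) : f⁻¹ (f x) = x := f.symm_apply_apply x

variable {n : ℕ} {F : Type} [Field F] {q : ℕ}

theorem cs_mul (s t : Cfsg.SU n F q) : cs (s * t) = cs s * cs t := by
  change H198.FC.cj F (V n F) (us (s * t)) = _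
  rw [map_mul, map_mul]

theorem cs_one : cs (1 : Cfsg.SU n F q) = 1 := by
  change H198.FC.cj F (V n F) (us 1) = _
  rw [map_one, map_one]

theorem cs_inv (s : Cfsg.SU n F q) : cs s⁻¹ = (cs s)⁻¹ := by
  change H198.FC.cj F (V n F) (us s⁻¹) = _
  rw [map_inv, map_inv]

theorem cs_pow (s : Cfsg.SU n F q) (k : ℕ) : cs (s ^ k) = cs s ^ k := by
  change H198.FC.cj F (V n F) (us (s ^ k)) = _
  rw [map_pow, map_pow]

section fin

variable [Fintype F] (hF : Fintype.card F = q ^ 2)

theorem exists_su {X : R F (V n F)} (hd : LinearMap.det X = 1) (hi : (hb n hF).Isom X) :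
    ∃ s : Cfsg.SU n F q, ((us s : (R F (V n F))ˣ) : R F (V n F)) = X := by
  have hdet : ((E n F).symm X).det = 1 := by
    have h1 := LinearMap.det_toMatrix' X
    rw [hd] at h1
    exact h1
  have hap : ∀ v : V n F, ((E n F).symm X) *ᵥ v = X v := fun v => by
    have h1 : E n F ((E n F).symm X) v = X v := by rw [(E n F).apply_symm_apply]
    exact h1
  have hiso : ∀ u v : V n F, hermForm n F q (((E n F).symm X) *ᵥ u) (((E n F).symm X) *ᵥ v) =
      hermForm n F q u v := fun u v => by
    rw [hap, hap]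
    exact hi u v
  refine ⟨mkSU _ hdet hiso, ?_⟩
  rw [coe_us, mat_mkSU]
  exact (E n F).apply_symm_apply _

theorem cs_apply (s : Cfsg.SU n F q) (X : R F (V n F)) :
    cs s X = (us s : (R F (V n F))ˣ) * X * (((us s)⁻¹ : (R F (V n F))ˣ) : R F (V n F)) := rfl

theorem cs_fix_iff (s : Cfsg.SU n F q) (X : R F (V n F)) :
    cs s X = X ↔ ((us s : (R F (V n F))ˣ) : R F (V n F)) * X = X * (us s : (R F (V n F))ˣ) := by
  rw [cs_apply, Units.mul_inv_eq_iff_eq_mul]

include hF in
theorem exists_sw (hn : 3 ≤ n) {a a' : R F (V n F)} (h : (hb n hF).Adj a a') (hp : Pi a a') (ha : a ≠ 0) :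
    ∃ s : Cfsg.SU n F q, ((us s : (R F (V n F))ˣ) : R F (V n F)) = sw a a' ∧ Even (orderOf (pr n F q s)) := by
  obtain ⟨s, hs⟩ := exists_su hF (det_sw hp) (isom_sw h hp)
  refine ⟨s, hs, even_of_four ?_ ?_⟩
  · rw [← map_pow]
    have h1 : s ^ 4 = 1 := by
      apply us_inj
      apply Units.ext
      rw [map_pow, map_one, Units.val_pow_eq_pow_val, hs, Units.val_one]
      have := hp.sw_four
      rw [← this]
      noncomm_ring
    rw [h1, map_one]
  · intro h1
    have h2 := cs_eq_one hF hn h1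
    have h3 : cs s a = a := by rw [h2]; rfl
    rw [cs_fix_iff, hs] at h3
    exact ha (hp.ne_of_comm h3)

theorem adj_single (i j : Fin n) (c : F) :
    (hb n hF).Adj (E n F (single i j c)) (E n F (single j i ((hb n hF).τ c))) := by
  intro v w
  change hermForm n F q (single i j c *ᵥ v) w = hermForm n F q v (single j i ((hb n hF).τ c) *ᵥ w)
  have e1 : ∀ (i j : Fin n) (c : F) (v : Fin n → F), single i j c *ᵥ v = Pi.single i (c * v j) := by
    intro i j c v
    ext k
    simp only [mulVec, dotProduct, single_apply, Pi.single_apply]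
    by_cases hk : i = k
    · subst hk
      simp
    · rw [if_neg (Ne.symm hk)]
      apply Finset.sum_eq_zero
      intro l _
      rw [if_neg (fun h => hk h.1), zero_mul]
  have hq : q ≠ 0 := by
    rintro rfl
    simp at hF
  rw [e1, e1]
  unfold Cfsg.hermForm
  rw [Finset.sum_eq_single i, Finset.sum_eq_single j]
  · rw [Pi.single_eq_same, Pi.single_eq_same, mul_pow]
    have e2 : ((hb n hF).τ c) ^ q = c := (hb n hF).invol c
    rw [e2]
    ring
  · intro k _ hk
    rw [Pi.single_eq_of_ne hk, zero_pow hq, mul_zero]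
  · simp
  · intro k _ hk
    rw [Pi.single_eq_of_ne hk, zero_mul]
  · simp

/-- two elements of norm one different from `1` -/
theorem exists_mu (hF : Fintype.card F = q ^ 2) : ∃ c c' : F, c ≠ 1 ∧ c' ≠ 1 ∧ c ≠ c' ∧ c * c ^ q = 1 ∧ c' * c' ^ q = 1 := by
  have hq : 2 ≤ q := by
    by_contra hcon
    have h1 : q = 0 ∨ q = 1 := by omega
    have h2 := Fintype.one_lt_card (α := F)
    rcases h1 with rfl | rfl <;> simp [hF] at h2
  classical
  obtain ⟨g, hg⟩ := IsCyclic.exists_generator (α := Fˣ)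
  have ho : orderOf g = q ^ 2 - 1 := by
    rw [orderOf_eq_card_of_forall_mem_zpowers hg, Nat.card_eq_fintype_card, Fintype.card_units, hF]
  have hqq : q ^ 2 - 1 = (q - 1) * (q + 1) := by
    obtain ⟨k, rfl⟩ := Nat.exists_eq_add_of_le hq
    have e : 2 + k - 1 = k + 1 := by omega
    rw [e]
    have : (2 + k) ^ 2 = (k + 1) * (2 + k + 1) + 1 := by ring
    omega
  have ho2 : orderOf (g ^ (q - 1)) = q + 1 := by
    rw [orderOf_pow_of_dvd (by omega) (by rw [ho, hqq]; exact Dvd.intro _ rfl), ho, hqq, Nat.mul_div_cancel_left _ (by omega)]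
  obtain ⟨u, hu⟩ : ∃ u : Fˣ, u = g ^ (q - 1) := ⟨_, rfl⟩
  rw [← hu] at ho2
  have h1 : u ≠ 1 := by
    rintro rfl
    rw [orderOf_one] at ho2
    omega
  have h2 : u ^ 2 ≠ 1 := by
    intro h
    have := Nat.le_of_dvd (by norm_num) (orderOf_dvd_of_pow_eq_one h)
    omega
  have h3 : u ^ (q + 1) = 1 := by rw [← ho2, pow_orderOf_eq_one]
  have h4 : (u : F) * (u : F) ^ q = 1 := by
    rw [← pow_succ', ← Units.val_pow_eq_pow_val, h3, Units.val_one]
  refine ⟨u, (u : F) ^ 2, ?_, ?_, ?_, h4, ?_⟩
  · intro h; exact h1 (Units.ext h)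
  · intro h
    apply h2
    apply Units.ext
    rw [Units.val_pow_eq_pow_val, h, Units.val_one]
  · intro h
    apply h1
    have h5 : (u : F) * 1 = (u : F) * u := by rw [mul_one, ← sq]; exact h
    have h6 := mul_left_cancel₀ u.ne_zero h5
    exact Units.ext h6.symm
  · have : (u : F) ^ 2 * ((u : F) ^ 2) ^ q = ((u : F) * (u : F) ^ q) ^ 2 := by ring
    rw [this, h4, one_pow]

include hF in
/-- the algebra generated by `SU` is `End V` -/
theorem span_us (hn : 3 ≤ n) (D : Subalgebra F (R F (V n F)))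
    (hD : ∀ s : Cfsg.SU n F q, ((us s : (R F (V n F))ˣ) : R F (V n F)) ∈ D) : D = ⊤ := by
  obtain ⟨c, c', hc, hc', hcc, hcn, hcn'⟩ := exists_mu hF
  have hc0 : c ≠ 0 := by
    rintro rfl
    rw [zero_mul] at hcn
    exact zero_ne_one hcn
  have hc0' : c' ≠ 0 := by
    rintro rfl
    rw [zero_mul] at hcn'
    exact zero_ne_one hcn'
  -- the elements of norm one
  have key : ∀ (i j : Fin n), i ≠ j → ∀ c : F, c * c ^ q = 1 →
      (1 : R F (V n F)) + c • E n F (single i j 1) - c⁻¹ • E n F (single j i 1) - E n F (single j j 1) -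
        E n F (single i i 1) ∈ D := by
    intro i j hij c hcn
    have hc0 : c ≠ 0 := by
      rintro rfl
      rw [zero_mul] at hcn
      exact zero_ne_one hcn
    have hci : (hb n hF).τ c = c⁻¹ := (eq_inv_of_mul_eq_one_right hcn)
    have hadj := adj_single hF i j c
    rw [hci] at hadj
    have h1 : E n F (single i j c) * E n F (single i j c) = 0 := by
      rw [← map_mul, single_mul_single_of_ne _ _ _ _ hij.symm, map_zero]
    have h3 : E n F (single i j c) * E n F (single j i c⁻¹) * E n F (single i j c) = E n F (single i j c) := by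
      rw [← map_mul, ← map_mul, single_mul_single_same, single_mul_single_same, mul_inv_cancel₀ hc0, one_mul]
    have hp := pi_of_adj hadj h1 h3
    have ha : E n F (single i j c) ≠ 0 := by
      intro h
      have h2 : single i j c = 0 := (E n F).injective (by rw [h, map_zero])
      have h4 := congrFun (congrFun h2 i) j
      rw [single_apply_same] at h4
      exact hc0 h4
    obtain ⟨s, hs, -⟩ := exists_sw hF hn hadj hp ha
    have h5 := hD s
    rw [hs, sw, ← map_mul, ← map_mul, single_mul_single_same, single_mul_single_same, mul_inv_cancel₀ hc0,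
      inv_mul_cancel₀ hc0] at h5
    have e1 : ∀ (i j : Fin n) (c : F), E n F (single i j c) = c • E n F (single i j 1) := by
      intro i j c
      rw [← map_smul, smul_single, smul_eq_mul, mul_one]
    rw [e1 i j c, e1 j i c⁻¹] at h5
    exact h5
  have key2 : ∀ (i j : Fin n), i ≠ j → ∀ c : F, c ≠ 1 → c * c ^ q = 1 →
      E n F (single i j 1) + c⁻¹ • E n F (single j i 1) ∈ D := by
    intro i j hij c hc hcn
    have hc0 : c ≠ 0 := by
      rintro rfl
      rw [zero_mul] at hcn
      exact zero_ne_one hcn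
    have h1 := D.sub_mem (key i j hij c hcn) (key i j hij 1 (by rw [one_pow, one_mul]))
    have h2 : ((1 : R F (V n F)) + c • E n F (single i j 1) - c⁻¹ • E n F (single j i 1) - E n F (single j j 1) -
        E n F (single i i 1)) - ((1 : R F (V n F)) + (1 : F) • E n F (single i j 1) - (1 : F)⁻¹ • E n F (single j i 1)
        - E n F (single j j 1) - E n F (single i i 1)) =
        (c - 1) • (E n F (single i j 1) + c⁻¹ • E n F (single j i 1)) :=
      gen1 _ _ _ _ hc0
    rw [h2] at h1
    have h3 := D.smul_mem h1 (c - 1)⁻¹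
    rwa [smul_smul, inv_mul_cancel₀ (sub_ne_zero.2 hc), one_smul] at h3
  have key3 : ∀ (i j : Fin n), i ≠ j → E n F (single j i 1) ∈ D := by
    intro i j hij
    have h1 := D.sub_mem (key2 i j hij c hc hcn) (key2 i j hij c' hc' hcn')
    have h2 : (E n F (single i j 1) + c⁻¹ • E n F (single j i 1)) -
        (E n F (single i j 1) + c'⁻¹ • E n F (single j i 1)) = (c⁻¹ - c'⁻¹) • E n F (single j i (1 : F)) :=
      gen2 _ _ _ _
    rw [h2] at h1
    have h3 := D.smul_mem h1 (c⁻¹ - c'⁻¹)⁻¹
    have h4 : c⁻¹ - c'⁻¹ ≠ 0 := by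
      rw [sub_ne_zero]
      intro h
      exact hcc (inv_injective h)
    rwa [smul_smul, inv_mul_cancel₀ h4, one_smul] at h3
  have key4 : ∀ (i j : Fin n), E n F (single i j 1) ∈ D := by
    intro i j
    by_cases hij : i = j
    · subst hij
      obtain ⟨k, hk⟩ : ∃ k : Fin n, k ≠ i := by
        by_cases h0 : (i : ℕ) = 0
        · exact ⟨⟨1, by omega⟩, fun h => by have := congrArg Fin.val h; simp at this; omega⟩
        · exact ⟨⟨0, by omega⟩, fun h => h0 (congrArg Fin.val h).symm⟩
      have h1 := D.mul_mem (key3 k i hk) (key3 i k hk.symm)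
      rwa [← map_mul, single_mul_single_same, one_mul] at h1
    · exact key3 j i (Ne.symm hij)
  rw [eq_top_iff]
  intro X _
  obtain ⟨M, rfl⟩ := (E n F).surjective X
  rw [matrix_eq_sum_single M, map_sum]
  refine D.sum_mem fun i _ => ?_
  rw [map_sum]
  refine D.sum_mem fun j _ => ?_
  have e1 : E n F (single i j (M i j)) = M i j • E n F (single i j 1) := by
    rw [← map_smul, smul_single, smul_eq_mul, mul_one]
  rw [e1]
  exact D.smul_mem (key4 i j) _

include hF in
/-- commutant -/
theorem cent (hn : 3 ≤ n) {X : R F (V n F)} (hX : ∀ s : Cfsg.SU n F q, cs s X = X) (Y : R F (V n F)) : X * Y = Y * X := by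
  have h1 := span_us hF hn (Subalgebra.centralizer F {X}) (by
    intro s
    rw [Subalgebra.mem_centralizer_iff]
    intro Z hZ
    rw [Set.mem_singleton_iff] at hZ
    subst hZ
    exact ((cs_fix_iff s Z).1 (hX s)).symm)
  have h2 : Y ∈ Subalgebra.centralizer F {X} := by rw [h1]; exact Algebra.mem_top
  rw [Subalgebra.mem_centralizer_iff] at h2
  exact h2 X rfl

include hF in
/-- irreducibility -/
theorem irr (hn : 3 ≤ n) {W : Submodule F (V n F)} (hW : ∀ (s : Cfsg.SU n F q), ∀ w ∈ W, act s w ∈ W) (h0 : W ≠ ⊥) :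
    W = ⊤ := by
  let D : Subalgebra F (R F (V n F)) :=
    { carrier := {X | ∀ w ∈ W, X w ∈ W}
      mul_mem' := fun {X Y} hX hY w hw => hX _ (hY w hw)
      add_mem' := fun {X Y} hX hY w hw => W.add_mem (hX w hw) (hY w hw)
      algebraMap_mem' := fun c w hw => by
        rw [Module.algebraMap_end_apply]
        exact W.smul_mem c hw }
  have h1 : D = ⊤ := span_us hF hn D fun s w hw => hW s w hw
  obtain ⟨w, hw, hw0⟩ := (Submodule.ne_bot_iff W).1 h0
  rw [eq_top_iff]
  intro v _
  obtain ⟨i, hi⟩ : ∃ i, w i ≠ 0 := by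
    by_contra hcon
    push Not at hcon
    exact hw0 (funext hcon)
  have h2 : (LinearMap.smulRight (LinearMap.proj i : V n F →ₗ[F] F) ((w i)⁻¹ • v) : R F (V n F)) ∈ D := by
    rw [h1]; exact Algebra.mem_top
  have h3 := h2 w hw
  rwa [LinearMap.smulRight_apply, LinearMap.proj_apply, smul_smul, mul_inv_cancel₀ hi, one_smul] at h3

/-- the stabiliser of a set -/
def SetStab (D : Set (R F (V n F))) : Subgroup (Equiv.Perm (R F (V n F))) where
  carrier := {f | ∀ x, f x ∈ D ↔ x ∈ D}
  one_mem' := fun x => Iff.rfl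
  mul_mem' := by
    intro f g hf hg x
    rw [Equiv.Perm.mul_apply, hf, hg]
  inv_mem' := by
    intro f hf x
    rw [← hf (f⁻¹ x), pai]

theorem mem_SetStab {D : Set (R F (V n F))} {f : Equiv.Perm (R F (V n F))} : f ∈ SetStab D ↔ ∀ x, f x ∈ D ↔ x ∈ D :=
  Iff.rfl

theorem le_SetStab {S : Subgroup (Equiv.Perm (R F (V n F)))} {D : Set (R F (V n F))}
    (hD : ∀ f ∈ S, ∀ x ∈ D, f x ∈ D) : S ≤ SetStab D := by
  intro f hf x
  constructor
  · intro h
    have := hD _ (inv_mem hf) _ h
    rwa [pia] at this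
  · exact hD f hf x

variable {A : Subgroup (Cfsg.PSU n F q)} {Γ : Subgroup (MulAut (Cfsg.PSU n F q))}

theorem odd_of_mem (hodd : Odd (Nat.card A)) {x : Cfsg.PSU n F q} (hx : x ∈ A) (he : Even (orderOf x)) : False := by
  have h2 : orderOf x ∣ Nat.card A := by
    rw [show orderOf x = orderOf (⟨x, hx⟩ : A) from (Subgroup.orderOf_mk x hx).symm]
    exact orderOf_dvd_natCard _
  exact (Nat.not_even_iff_odd.2 (Odd.of_dvd_nat hodd h2)) he

include hF in
/-- **An invariant set.** -/
theorem kill_set [IsSimpleGroup (Cfsg.PSU n F q)] (hn : 3 ≤ n) (h32 : ¬ (n = 3 ∧ q = 2)) (h : IF A Γ) (hodd : Odd (Nat.card A))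
    {D : Set (R F (V n F))} (hD : ∀ f ∈ SS Γ, ∀ x ∈ D, f x ∈ D) {x y : R F (V n F)} (hx : x ∈ D) (hxy : x * y ≠ y * x)
    {s s0 : Cfsg.SU n F q} (hs : ∀ x ∈ D, cs s x ∈ D) (hev : Even (orderOf (pr n F q s)))
    (hs0 : ∀ x ∈ D, cs s0 x = x) (hs01 : pr n F q s0 ≠ 1) : False := by
  have : Finite (Cfsg.SU n F q) := inferInstance
  rcases max_stab hF hn h32 h (le_SetStab hD) with h1 | h1
  · -- the kernel of the action on `D`
    let N : Subgroup (Cfsg.SU n F q) :=
      { carrier := {t | ∀ x ∈ D, cs t x = x}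
        one_mem' := fun x _ => by rw [cs_one]; rfl
        mul_mem' := by
          intro s t hs ht x hx
          rw [cs_mul, Equiv.Perm.mul_apply, ht x hx, hs x hx]
        inv_mem' := by
          intro s hs x hx
          rw [cs_inv, Equiv.Perm.inv_eq_iff_eq]
          exact (hs x hx).symm }
    have hN : N.Normal := by
      constructor
      intro t ht g x hx
      rw [cs_mul, cs_mul, Equiv.Perm.mul_apply, Equiv.Perm.mul_apply, cs_inv]
      have h2 : (cs g)⁻¹ x ∈ D := (mem_SetStab.1 (inv_mem (h1 g)) x).2 hx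
      rw [ht _ h2, pai]
    have hN2 : (N.map (pr n F q)).Normal := hN.map _ pr_surjective
    rcases hN2.eq_bot_or_eq_top with h2 | h2
    · apply hs01
      have h3 : pr n F q s0 ∈ N.map (pr n F q) := ⟨s0, hs0, rfl⟩
      rwa [h2, Subgroup.mem_bot] at h3
    · apply hxy
      apply cent hF hn
      intro t
      have h3 : pr n F q t ∈ N.map (pr n F q) := by rw [h2]; exact mem_top _
      obtain ⟨u, hu, hut⟩ := h3
      have h4 : pr n F q (u⁻¹ * t) = 1 := by rw [map_mul, map_inv, hut, inv_mul_cancel]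
      have h5 := cs_eq_one hF hn h4
      have h6 : cs t = cs u := by
        have h7 : cs u * cs (u⁻¹ * t) = cs t := by
          rw [← cs_mul, mul_inv_cancel_left]
        rw [← h7, h5, mul_one]
      rw [h6]
      exact hu x hx
  · refine odd_of_mem hodd (h1 s ?_) hev
    -- `cs s` stabilises `D` : finite order
    rw [mem_SetStab]
    intro x
    have hpow : ∀ k : ℕ, ∀ x ∈ D, ((cs s) ^ k) x ∈ D := by
      intro k
      induction k with
      | zero => intro x hx; exact hx
      | succ k ih =>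
        intro x hx
        rw [pow_succ, Equiv.Perm.mul_apply]
        exact ih _ (hs x hx)
    constructor
    · intro hx
      have h2 : (cs s) ^ (orderOf s) = 1 := by
        rw [← cs_pow, pow_orderOf_eq_one, cs_one]
      have h3 : 0 < orderOf s := orderOf_pos s
      have h4 := hpow (orderOf s - 1) _ hx
      rw [← Equiv.Perm.mul_apply, ← pow_succ, Nat.sub_add_cancel h3, h2] at h4
      exact h4
    · exact hs x

include hF in
/-- the same with an element of the commutant -/
theorem kill_comm [IsSimpleGroup (Cfsg.PSU n F q)] (hn : 3 ≤ n) (h32 : ¬ (n = 3 ∧ q = 2)) (h : IF A Γ)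
    (hodd : Odd (Nat.card A)) {D : Set (R F (V n F))} (hD : ∀ f ∈ SS Γ, ∀ x ∈ D, f x ∈ D) {x y : R F (V n F)}
    (hx : x ∈ D) (hxy : x * y ≠ y * x) {a a' : R F (V n F)} (hadj : (hb n hF).Adj a a') (h1 : a * a = 0)
    (h3 : a * a' * a = a) (ha : a ≠ 0) (hc : ∀ x ∈ D, a * x = x * a) (hc' : ∀ x ∈ D, a' * x = x * a') : False := by
  have hp := pi_of_adj hadj h1 h3
  obtain ⟨s, hs, hev⟩ := exists_sw hF hn hadj hp ha
  have hfix : ∀ x ∈ D, cs s x = x := by
    intro x hx
    rw [cs_fix_iff, hs]
    have e1 := hc x hx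
    have e2 := hc' x hx
    simp only [sw, add_mul, mul_add, sub_mul, mul_sub, one_mul, mul_one]
    rw [e1, e2, mul_assoc a' a x, e1, ← mul_assoc a' x a, e2, mul_assoc x, mul_assoc a a' x, e2, ← mul_assoc a x a', e1,
      mul_assoc x]
  refine kill_set hF hn h32 h hodd hD hx hxy (fun x hx => by rw [hfix x hx]; exact hx) hev hfix ?_
  intro h4
  rw [h4, orderOf_one] at hev
  exact absurd hev (by decide)

include hF in
/-- **An invariant subspace.** -/
theorem kill_sub [IsSimpleGroup (Cfsg.PSU n F q)] (hn : 3 ≤ n) (h32 : ¬ (n = 3 ∧ q = 2)) (h : IF A Γ)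
    (hodd : Odd (Nat.card A)) {W : Submodule F (V n F)} (hW : ∀ f ∈ SS Γ, Stb f W) (h0 : W ≠ ⊥) (h1 : W ≠ ⊤)
    {s : Cfsg.SU n F q} (hs : ∀ w ∈ W, act s w ∈ W) (hev : Even (orderOf (pr n F q s))) : False := by
  have hst : ∀ (t : Cfsg.SU n F q) (X : R F (V n F)) (v : V n F), cs t X (act t v) = act t (X v) := by
    intro t X v
    rw [cs_apply]
    change act t (X ((((us t)⁻¹ : (R F (V n F))ˣ) : R F (V n F)) (((us t : (R F (V n F))ˣ) : R F (V n F)) v))) = _
    have e : ((((us t)⁻¹ : (R F (V n F))ˣ) : R F (V n F)) (((us t : (R F (V n F))ˣ) : R F (V n F)) v)) = v := by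
      rw [← Module.End.mul_apply, Units.inv_mul, Module.End.one_apply]
    rw [e]
  have hsurj : ∀ (t : Cfsg.SU n F q) (v : V n F), ∃ w, act t w = v := fun t v => ⟨act t⁻¹ v, act_act_inv t v⟩
  rcases max_stab hF hn h32 h (le_SetStab (D := {X : R F (V n F) | ∀ v, X v ∈ W})
    fun f hf X hX => hW f hf X hX) with h2 | h2
  · apply h1
    refine irr hF hn ?_ h0
    intro t w hw
    have : Nonempty (Fin n) := ⟨⟨0, by omega⟩⟩
    have i : Fin n := ⟨0, by omega⟩
    have h3 := (h2 t (LinearMap.smulRight (LinearMap.proj i : V n F →ₗ[F] F) w)).2 (fun v => by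
      rw [LinearMap.smulRight_apply]
      exact W.smul_mem _ hw)
    have h4 := h3 (act t (Pi.single i 1))
    rw [hst, LinearMap.smulRight_apply, LinearMap.proj_apply, Pi.single_eq_same, one_smul] at h4
    exact h4
  · have hbij : ∀ w, act s w ∈ W → w ∈ W := by
      have hfin : Finite (V n F) := inferInstance
      let f : W → W := fun w => ⟨act s w, hs w w.2⟩
      have hf : Function.Injective f := by
        intro a b hab
        apply Subtype.ext
        exact act_injective s (congrArg Subtype.val hab)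
      have hf2 := Finite.surjective_of_injective hf
      intro w hw
      obtain ⟨w', hw'⟩ := hf2 ⟨_, hw⟩
      have h3 := act_injective s (congrArg Subtype.val hw')
      rw [← h3]
      exact w'.2
    refine odd_of_mem hodd (h2 s ?_) hev
    intro X
    constructor
    · intro hX v
      have h3 := hX (act s v)
      rw [hst] at h3
      exact hbij _ h3
    · intro hX v
      obtain ⟨w, rfl⟩ := hsurj s v
      rw [hst]
      exact hs _ (hX w)

end fin

end Cfsg.Agent.H574.IFO
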