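import Cfsg.Agent.H886.FC.ClassB
import Cfsg.Agent.H567.FC.ZMap

/-!
# S5719, `PSU`, `|A|` odd: the isometries `1 + a - a* - a*a - aa*` (helper574)

`a² = 0`, `a a* a = a` : `sw a a* = (1 - a*)(1 + a)(1 - a*)` is an isometry of determinant 1 with `(sw a a*)^4 = 1`,
not a scalar if `a ≠ 0`.
-/

set_option autoImplicit false
set_option linter.unusedSimpArgs false

universe u v

namespace Cfsg.Agent.H574.IFO

open Module Cfsg.Agent.H198.FC

section ring

variable {A : Type*} [Ring A]

/-- the swap element -/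
def sw (a a' : A) : A := 1 + a - a' - a' * a - a * a'

/-- `a² = a'² = 0`, `a a' a = a`, `a' a a' = a'` -/
structure Pi (a a' : A) : Prop where
  h1 : a * a = 0
  h2 : a' * a' = 0
  h3 : a * a' * a = a
  h4 : a' * a * a' = a'

namespace Pi

variable {a a' : A} (h : Pi a a')

include h

theorem symm : Pi a' a := ⟨h.h2, h.h1, h.h4, h.h3⟩

theorem h1' (x : A) : a * (a * x) = 0 := by rw [← mul_assoc, h.h1, zero_mul]

theorem h2' (x : A) : a' * (a' * x) = 0 := by rw [← mul_assoc, h.h2, zero_mul]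

theorem h3a : a * (a' * a) = a := by rw [← mul_assoc, h.h3]

theorem h4a : a' * (a * a') = a' := by rw [← mul_assoc, h.h4]

theorem h3' (x : A) : a * (a' * (a * x)) = a * x := by rw [← mul_assoc, ← mul_assoc, h.h3]

theorem h4' (x : A) : a' * (a * (a' * x)) = a' * x := by rw [← mul_assoc, ← mul_assoc, h.h4]

theorem sw_eq : sw a a' = (1 - a') * (1 + a) * (1 - a') := by
  simp only [sw, mul_add, add_mul, mul_sub, sub_mul, mul_one, one_mul, mul_assoc, h.h1, h.h2, h.h3a, h.h4a]
  abel

theorem sw_mul_sw : sw a a' * sw a' a = 1 := by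
  simp only [sw, mul_add, add_mul, mul_sub, sub_mul, mul_one, one_mul, mul_assoc, h.h1, h.h2, h.h3a, h.h4a, h.h1',
    h.h2', h.h3', h.h4', mul_zero, zero_mul]
  abel

theorem sw_sq : sw a a' * sw a a' = 1 - 2 * (a' * a + a * a') := by
  simp only [sw, mul_add, add_mul, mul_sub, sub_mul, mul_one, one_mul, mul_assoc, h.h1, h.h2, h.h3a, h.h4a, h.h1',
    h.h2', h.h3', h.h4', mul_zero, zero_mul, two_mul]
  abel

theorem sw_four : sw a a' * sw a a' * (sw a a' * sw a a') = 1 := by
  rw [h.sw_sq]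
  simp only [mul_add, add_mul, mul_sub, sub_mul, mul_one, one_mul, mul_assoc, h.h1, h.h2, h.h3a, h.h4a, h.h1',
    h.h2', h.h3', h.h4', mul_zero, zero_mul, two_mul]
  abel

theorem ne_of_comm (hc : sw a a' * a = a * sw a a') : a = 0 := by
  have e1 : sw a a' * a = - (a' * a) := by
    simp only [sw, mul_add, add_mul, mul_sub, sub_mul, mul_one, one_mul, mul_assoc, h.h1, h.h2, h.h3a, h.h4a, h.h1',
      h.h2', h.h3', h.h4', mul_zero, zero_mul]
    abel
  have e2 : a * sw a a' = - (a * a') := by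
    simp only [sw, mul_add, add_mul, mul_sub, sub_mul, mul_one, one_mul, mul_assoc, h.h1, h.h2, h.h3a, h.h4a, h.h1',
      h.h2', h.h3', h.h4', mul_zero, zero_mul]
    abel
  rw [e1, e2, neg_inj] at hc
  have e3 : a = a * (a' * a) := h.h3a.symm
  rw [hc, h.h1'] at e3
  exact e3

end Pi

end ring

section form

variable {K : Type u} [Field K] {V : Type v} [AddCommGroup V] [Module K V] {b : Cl K V}

theorem adj_one : b.Adj 1 1 := fun _ _ => rfl

theorem adj_neg {X Y : R K V} (h : b.Adj X Y) : b.Adj (-X) (-Y) := by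
  intro v w
  have e1 : b.B ((-X : R K V) v) w = - b.B (X v) w := by
    have := b.smul_left (-1) (X v) w
    rwa [neg_one_smul, neg_one_mul] at this
  have e2 : b.B v ((-Y : R K V) w) = - b.B v (Y w) := by
    have := b.smul_right (-1) v (Y w)
    rwa [neg_one_smul, map_neg, map_one, neg_one_mul] at this
  rw [e1, e2, h]

theorem adj_sub {X Y X' Y' : R K V} (h : b.Adj X Y) (h' : b.Adj X' Y') : b.Adj (X - X') (Y - Y') := by
  rw [sub_eq_add_neg, sub_eq_add_neg]
  exact H886.FC.adj_add b h (adj_neg h')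

theorem adj_zero : b.Adj 0 0 := by
  intro v w
  rw [LinearMap.zero_apply, LinearMap.zero_apply, H886.FC.B_zero_left, H886.FC.B_zero_right]

/-- `X* X = 1` -/
theorem isom_of_adj {X Y : R K V} (h : b.Adj X Y) (hXY : Y * X = 1) : b.Isom X := by
  intro v w
  rw [h, ← Module.End.mul_apply, hXY, Module.End.one_apply]

theorem pi_of_adj {a a' : R K V} (h : b.Adj a a') (h1 : a * a = 0) (h3 : a * a' * a = a) : Pi a a' where
  h1 := h1
  h2 := by
    have e := H886.FC.adj_mul b h h
    rw [h1] at e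
    exact (H886.FC.adj_unique b e adj_zero)
  h3 := h3
  h4 := by
    have h' := H886.FC.adj_symm b h
    have e := H886.FC.adj_mul b (H886.FC.adj_mul b h h') h
    rw [h3] at e
    have e2 := H886.FC.adj_unique b e h
    rwa [← mul_assoc] at e2

theorem adj_sw {a a' : R K V} (h : b.Adj a a') : b.Adj (sw a a') (sw a' a) := by
  have h' := H886.FC.adj_symm b h
  have e1 := H886.FC.adj_mul b h' h
  have e2 := H886.FC.adj_mul b h h'
  have e := adj_sub (adj_sub (adj_sub (H886.FC.adj_add b adj_one h) h') e1) e2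
  have e4 : sw a' a = 1 + a' - a - a' * a - a * a' := by
    rw [sw]
    abel
  rw [sw, e4]
  exact e

theorem isom_sw {a a' : R K V} (h : b.Adj a a') (hp : Pi a a') : b.Isom (sw a a') :=
  isom_of_adj (adj_sw h) hp.symm.sw_mul_sw

theorem det_sw [Finite K] [Module.Finite K V] {a a' : R K V} (hp : Pi a a') : LinearMap.det (sw a a') = 1 := by
  have e1 : LinearMap.det (1 + a) = 1 := H567.FC.det_one_add hp.h1
  have e2 : LinearMap.det (1 - a') = 1 := by
    rw [sub_eq_add_neg]
    apply H567.FC.det_one_add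
    rw [neg_mul_neg, hp.h2]
  rw [hp.sw_eq, map_mul, map_mul, e1, e2, mul_one, mul_one]

end form

end Cfsg.Agent.H574.IFO
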